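import Cfsg.Agent.PrimeGraphPSp.Cyclic
import Cfsg.Agent.KnownSimple58.SpElements

/-!
Symplectic matrices as isometries, the passage to the projective group, and elements of prescribed
orders in the tori.
-/

set_option autoImplicit false
set_option linter.unusedSectionVars false

namespace Cfsg.Agent.PrimeGraphPSp

open Module Cfsg.Agent.ClMax99 Cfsg.Agent.Symplectic Cfsg.Agent.KS58

universe u

variable {F : Type u} [Field F] {n : ℕ}

/-- A symplectic matrix as an endomorphism. -/
noncomputable def op : Sp n F →* Module.End F (Vec n F) :=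
  (Matrix.toLinAlgEquiv' : Matrix (Fin n ⊕ Fin n) (Fin n ⊕ Fin n) F ≃ₐ[F] _).toAlgHom.toMonoidHom.comp
    (Matrix.symplecticGroup (Fin n) F).subtype

theorem op_apply (g : Sp n F) (v : Vec n F) : op g v = g • v := Matrix.toLinAlgEquiv'_apply _ v

theorem op_injective : Function.Injective (op : Sp n F → Module.End F (Vec n F)) := fun g h e =>
  eq_of_smul_eq fun v => by rw [← op_apply, ← op_apply, e]

theorem op_isometry (g : Sp n F) (u v : Vec n F) :
    Forms.sympBilin n F (op g u) (op g v) = Forms.sympBilin n F u v := by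
  simp [Forms.sympBilin_apply, op_apply]

theorem finrank_vec : finrank F (Vec n F) = 2 * n := by
  rw [Module.finrank_pi, Fintype.card_sum, Fintype.card_fin, two_mul]

theorem negOne_sq : (negOne : Sp n F) ^ 2 = 1 :=
  eq_of_smul_eq fun v => by simp [pow_two, mul_smul, negOne_smul]

theorem negOne_eq_one (h : (2 : F) = 0) : (negOne : Sp n F) = 1 := by
  have hneg : (-1 : F) = 1 := by linear_combination -h
  refine eq_of_smul_eq fun v => ?_
  rw [negOne_smul, one_smul, ← neg_one_smul F v, hneg, one_smul]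

variable [Fintype F]

/-- An element order of the projective group is one of the symplectic group. -/
theorem mem_range_Sp {m : ℕ} (h : m ∈ Set.range (orderOf : Cfsg.PSp n F → ℕ)) :
    ∃ g : Sp n F, orderOf g = m := by
  classical
  obtain ⟨x, rfl⟩ := h
  obtain ⟨G, rfl⟩ := QuotientGroup.mk_surjective x
  exact ⟨G ^ (orderOf G / orderOf (QuotientGroup.mk G : Cfsg.PSp n F)),
    orderOf_pow_orderOf_div (orderOf_pos G).ne' (orderOf_map_dvd (QuotientGroup.mk' _) G)⟩

/-- An element order prime to the center is one of the projective group. -/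
theorem mem_range_PSp {m : ℕ} (hm : Odd m ∨ (2 : F) = 0) {g : Sp n F} (hg : orderOf g = m) :
    m ∈ Set.range (orderOf : Cfsg.PSp n F → ℕ) := by
  refine ⟨QuotientGroup.mk g, Nat.dvd_antisymm (hg ▸ orderOf_map_dvd (QuotientGroup.mk' _) g) ?_⟩
  have h := pow_orderOf_eq_one (QuotientGroup.mk g : Cfsg.PSp n F)
  rw [← QuotientGroup.mk_pow, QuotientGroup.eq_one_iff, mem_center_iff] at h
  set j := orderOf (QuotientGroup.mk g : Cfsg.PSp n F)
  rcases hm with ho | h2
  · have h' : g ^ (j * 2) = 1 := by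
      rw [pow_mul]
      rcases h with h | h <;> rw [h]
      · exact one_pow 2
      · exact negOne_sq
    exact (Nat.coprime_two_right.2 ho).dvd_of_dvd_mul_right (hg ▸ orderOf_dvd_of_pow_eq_one h')
  · rw [negOne_eq_one h2, or_self] at h
    exact hg ▸ orderOf_dvd_of_pow_eq_one h

theorem op_pow_eq_one {g : Sp n F} {r : ℕ} (hg : orderOf g = r) : op g ^ r = 1 := by
  rw [← map_pow, ← hg, pow_orderOf_eq_one, map_one]

/-- The moved space of an element of prime order is a positive multiple of `2η`. -/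
theorem moved_dvd {r η : ℕ} [hr : Fact r.Prime] (hrF : (r : F) ≠ 0)
    (hη : IsEta (orderOf (Fintype.card F : ZMod r)) η) {g : Sp n F} (hg : orderOf g = r) :
    2 * η ∣ finrank F (LinearMap.range (op g - 1)) ∧ 0 < finrank F (LinearMap.range (op g - 1)) := by
  refine ⟨?_, Nat.pos_of_ne_zero fun h => ?_⟩
  · refine hη.two_mul_dvd ?_ ?_
    · have h := Inv.dvd_finrank_moved hrF (op_pow_eq_one hg) (W := ⊤) le_top
      rwa [Submodule.map_top] at h
    · exact AltSim.even_moved _ Forms.sympBilin_isAlt Forms.sympBilin_nondegenerate (op g) (op_isometry g)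
        (Inv.disjoint_ker_range hrF (op_pow_eq_one hg))
  · rw [Submodule.finrank_eq_zero, LinearMap.range_eq_bot, sub_eq_zero, ← map_one (op (n := n) (F := F))] at h
    rw [op_injective h, orderOf_one] at hg
    exact hr.out.one_lt.ne hg

theorem eta_le {r η : ℕ} [hr : Fact r.Prime] (hrF : (r : F) ≠ 0)
    (hη : IsEta (orderOf (Fintype.card F : ZMod r)) η) (hG : r ∣ Nat.card (Cfsg.PSp n F)) : η ≤ n := by
  obtain ⟨x, hx⟩ := exists_prime_orderOf_dvd_card' r hG
  obtain ⟨g, hg⟩ := mem_range_Sp ⟨x, hx⟩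
  obtain ⟨h1, h2⟩ := moved_dvd hrF hη hg
  have := Nat.le_of_dvd h2 h1
  have := (Submodule.finrank_le (LinearMap.range (op g - 1))).trans_eq finrank_vec
  omega

theorem eta_pos {k η : ℕ} (h : IsEta k η) (hk : 0 < k) : 0 < η := by
  rcases h with ⟨-, rfl⟩ | ⟨-, h⟩ <;> omega

/-- For even multiplicative order `k`, `r ∣ q^(k/2) + 1`. -/
theorem dvd_pow_add_one {r η : ℕ} [hr : Fact r.Prime] (hpos : 0 < orderOf (Fintype.card F : ZMod r))
    (hk : 2 * η = orderOf (Fintype.card F : ZMod r)) : r ∣ Fintype.card F ^ η + 1 := by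
  have h := (Inv.orderOf_dvd_iff_dvd_pow (F := F) (r := r) (2 * η)).1 (hk ▸ dvd_rfl)
  rw [show Fintype.card F ^ (2 * η) - 1 = (Fintype.card F ^ η + 1) * (Fintype.card F ^ η - 1) by
    rw [← Nat.sq_sub_sq, one_pow, ← pow_mul, mul_comm η], hr.out.dvd_mul] at h
  refine h.resolve_right fun h2 => ?_
  have := Nat.le_of_dvd (by omega) ((Inv.orderOf_dvd_iff_dvd_pow η).2 h2)
  omega

/-- Prescribed orders in the tori. -/
theorem exists_sp_order {a d : ℕ} (ha : 1 ≤ a) (hd : d ∣ Fintype.card F ^ a - 1 ∨ d ∣ Fintype.card F ^ a + 1) :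
    ∃ g : Sp a F, orderOf g = d := by
  obtain ⟨⟨x, hx⟩, y, hy⟩ := SpEl.exists_sp_torus (F := F) ha
  rcases hd with h | h
  · exact ⟨x ^ (orderOf x / d), orderOf_pow_orderOf_div (orderOf_pos x).ne' (hx ▸ h)⟩
  · exact ⟨y ^ (orderOf y / d), orderOf_pow_orderOf_div (orderOf_pos y).ne' (hy ▸ h)⟩

theorem eta_dvd {r η : ℕ} [hr : Fact r.Prime] (hpos : 0 < orderOf (Fintype.card F : ZMod r))
    (hη : IsEta (orderOf (Fintype.card F : ZMod r)) η) :
    r ∣ Fintype.card F ^ η - 1 ∨ r ∣ Fintype.card F ^ η + 1 := by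
  rcases hη with ⟨-, h⟩ | ⟨-, h⟩
  · exact Or.inl ((Inv.orderOf_dvd_iff_dvd_pow η).1 (h ▸ dvd_rfl))
  · exact Or.inr (dvd_pow_add_one hpos h)

/-- Orders of block sums. -/
theorem exists_block_order {a b m m' : ℕ} (hn : a + b = n) (hg : ∃ g : Sp a F, orderOf g = m)
    (hh : ∃ h : Sp b F, orderOf h = m') : ∃ g : Sp n F, orderOf g = Nat.lcm m m' := by
  obtain ⟨g, rfl⟩ := hg
  obtain ⟨h, rfl⟩ := hh
  subst hn
  exact ⟨SpEl.blockSum (g, h), by rw [orderOf_injective _ SpEl.blockSum_injective, Prod.orderOf]⟩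

theorem exists_extend {a m : ℕ} (han : a ≤ n) (hg : ∃ g : Sp a F, orderOf g = m) :
    ∃ g : Sp n F, orderOf g = m := by
  have h := exists_block_order (F := F) (b := n - a) (Nat.add_sub_cancel' han) hg ⟨1, orderOf_one⟩
  rwa [Nat.lcm_one_right] at h

/-- A transvection. -/
theorem exists_char_order {b : ℕ} (hb : 1 ≤ b) (p : ℕ) [Fact p.Prime] [CharP F p] :
    ∃ g : Sp b F, orderOf g = p := by
  set w : Vec b F := Pi.single (Sum.inl ⟨0, hb⟩) 1
  have hpow : ∀ j : ℕ, tv w (1 : F) ^ j = tv w (j : F) := by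
    intro j
    induction j with
    | zero => simp
    | succ j ih => rw [pow_succ, ih, tv_mul_tv, Nat.cast_succ]
  refine ⟨tv w 1, orderOf_eq_prime (by rw [hpow, CharP.cast_eq_zero, tv_zero]) fun h => ?_⟩
  have := congrArg (fun k : Sp b F => (k • (Pi.single (Sum.inr ⟨0, hb⟩) 1 : Vec b F)) (Sum.inl ⟨0, hb⟩)) h
  simp [tv_smul, w, sympForm_eq_sum, Pi.single_apply] at this

end Cfsg.Agent.PrimeGraphPSp
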