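import Cfsg.Agent.PrimeGraphPSL.Basic
import Cfsg.Agent.ClMax99.AltSim

/-!
Isometries of odd prime order with a small moved space are cyclic there: whatever commutes with
one is a polynomial in it.
-/

set_option autoImplicit false
set_option linter.unusedSectionVars false

namespace Cfsg.Agent.PrimeGraphPSp

open Polynomial Module Cfsg.Agent.ClMax99

universe u

/-- The half order `η`. -/
def IsEta (k η : ℕ) : Prop := (Odd k ∧ η = k) ∨ (Even k ∧ 2 * η = k)

theorem IsEta.two_mul_dvd {k η d : ℕ} (h : IsEta k η) (hk : k ∣ d) (hd : Even d) : 2 * η ∣ d := by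
  rcases h with ⟨ho, rfl⟩ | ⟨-, rfl⟩
  · exact Nat.Coprime.mul_dvd_of_dvd_of_dvd (Nat.coprime_two_left.2 ho) hd.two_dvd hk
  · exact hk

variable {F : Type u} [Field F] [Fintype F]
variable {V : Type u} [AddCommGroup V] [Module F V] [FiniteDimensional F V]

theorem map_eq_one_iff {f : Module.End F V} (v : V) : (f - 1) v = 0 ↔ f v = v := by
  rw [LinearMap.sub_apply, Module.End.one_apply, sub_eq_zero]

theorem ker_sup_range {f : Module.End F V} {r : ℕ} [Fact r.Prime] (hrF : (r : F) ≠ 0) (hf : f ^ r = 1) :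
    LinearMap.ker (f - 1) ⊔ LinearMap.range (f - 1) = ⊤ :=
  Submodule.eq_top_of_disjoint _ _ (by rw [add_comm, LinearMap.finrank_range_add_finrank_ker])
    (Inv.disjoint_ker_range hrF hf)

/-- The cyclic subspace of a vector. -/
noncomputable def cyc (f : Module.End F V) (v : V) : Submodule F V :=
  LinearMap.range ((LinearMap.applyₗ v).comp (aeval f).toLinearMap)

theorem mem_cyc {f : Module.End F V} {v w : V} : w ∈ cyc f v ↔ ∃ P : F[X], aeval f P v = w := by
  simp [cyc]

theorem self_mem_cyc (f : Module.End F V) (v : V) : v ∈ cyc f v := mem_cyc.2 ⟨1, by simp⟩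

theorem cyc_map_le (f : Module.End F V) (v : V) : (cyc f v).map f ≤ cyc f v := by
  rintro _ ⟨w, hw, rfl⟩
  obtain ⟨P, rfl⟩ := mem_cyc.1 hw
  exact mem_cyc.2 ⟨X * P, by rw [map_mul, aeval_X]; rfl⟩

theorem cyc_le {f : Module.End F V} {v : V} {W : Submodule F V} (hW : W.map f ≤ W) (hv : v ∈ W) :
    cyc f v ≤ W := by
  intro w hw
  obtain ⟨P, rfl⟩ := mem_cyc.1 hw
  exact Inv.aeval_mem hW P hv

theorem cyc_le_cyc {f : Module.End F V} {v w : V} (h : w ∈ cyc f v) : cyc f w ≤ cyc f v :=
  cyc_le (cyc_map_le f v) h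

theorem cyc_ne_bot {f : Module.End F V} {v : V} (hv : v ≠ 0) : cyc f v ≠ ⊥ := fun h => hv (by
  simpa [h] using self_mem_cyc f v)

theorem commute_aeval {f g : Module.End F V} (h : Commute g f) (P : F[X]) : Commute g (aeval f P) := by
  induction P using Polynomial.induction_on' with
  | add a b ha hb => rw [map_add]; exact ha.add_right hb
  | monomial k c =>
    rw [aeval_monomial]
    exact (Algebra.commute_algebraMap_right c g).mul_right (h.pow_right k)

/-- Moved invariant subspaces inside the moved space. -/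
theorem dvd_finrank_sub {f : Module.End F V} {r : ℕ} [Fact r.Prime] (hrF : (r : F) ≠ 0) (hf : f ^ r = 1)
    {W : Submodule F V} (hW : W.map f ≤ W) (hWR : W ≤ LinearMap.range (f - 1)) :
    orderOf (Fintype.card F : ZMod r) ∣ finrank F W := by
  have h := Inv.dvd_finrank_moved hrF hf hW
  have hker : LinearMap.ker ((f - 1).domRestrict W) = ⊥ := by
    rw [LinearMap.ker_eq_bot']
    intro w hw
    exact Subtype.ext ((Submodule.disjoint_def.1 (Inv.disjoint_ker_range hrF hf)) w.1 hw (hWR w.2))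
  have h2 := LinearMap.finrank_range_add_finrank_ker ((f - 1).domRestrict W)
  rw [LinearMap.range_domRestrict, hker, finrank_bot, add_zero] at h2
  rwa [h2] at h

variable (B : LinearMap.BilinForm F V) (hA : B.IsAlt) (hB : B.Nondegenerate)

include hA hB

/-- The part moved by `g` of the fixed space of `f` has even dimension. -/
theorem even_moved_fixed {f g : Module.End F V} (hf : ∀ u v, B (f u) (f v) = B u v)
    (hg : ∀ u v, B (g u) (g v) = B u v) (hfg : Commute f g) {r s : ℕ} [Fact r.Prime] [Fact s.Prime]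
    (hrF : (r : F) ≠ 0) (hsF : (s : F) ≠ 0) (hfr : f ^ r = 1) (hgs : g ^ s = 1) :
    Even (finrank F ↥((LinearMap.ker (f - 1)).map (g - 1))) := by
  refine AltSim.even_finrank B hA _ fun u hu h => hB.1 u fun v => ?_
  have horth : ∀ {T : Module.End F V}, (∀ a b, B (T a) (T b) = B a b) → ∀ {a b : V},
      (T - 1) a = 0 → B a ((T - 1) b) = 0 := by
    intro T hT a b ha
    rw [map_eq_one_iff] at ha
    have e := hT a b
    rw [ha] at e
    rw [LinearMap.sub_apply, Module.End.one_apply, map_sub, e, sub_self]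
  have horth' : ∀ {T : Module.End F V}, (∀ a b, B (T a) (T b) = B a b) → ∀ {a b : V},
      (T - 1) b = 0 → B ((T - 1) a) b = 0 := by
    intro T hT a b hb
    rw [map_eq_one_iff] at hb
    have e := hT a b
    rw [hb] at e
    rw [LinearMap.sub_apply, Module.End.one_apply, map_sub, LinearMap.sub_apply, e, sub_self]
  have hcomm : Commute (g - 1) (f - 1) :=
    ((hfg.symm).sub_right (Commute.one_right _)).sub_left (Commute.one_left _)
  obtain ⟨w, hw, rfl⟩ := hu
  obtain ⟨a, ha, b, hb, rfl⟩ := Submodule.mem_sup.1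
    ((ker_sup_range hrF hfr).symm ▸ Submodule.mem_top : v ∈ LinearMap.ker (f - 1) ⊔ LinearMap.range (f - 1))
  obtain ⟨b', rfl⟩ := hb
  have h1 : B ((g - 1) w) ((f - 1) b') = 0 := horth hf (by
    rw [show (f - 1) ((g - 1) w) = (g - 1) ((f - 1) w) from (LinearMap.congr_fun hcomm.eq w).symm,
      LinearMap.mem_ker.1 hw, map_zero])
  rw [map_add, h1, add_zero]
  -- split the fixed vector along `g`
  obtain ⟨c, hc, d, hd, rfl⟩ := Submodule.mem_sup.1
    ((ker_sup_range hsF hgs).symm ▸ Submodule.mem_top : a ∈ LinearMap.ker (g - 1) ⊔ LinearMap.range (g - 1))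
  rw [map_add, horth' hg (LinearMap.mem_ker.1 hc), zero_add]
  -- `d` is fixed by `f`
  obtain ⟨e, rfl⟩ := hd
  have hsum : (f - 1) c + (f - 1) ((g - 1) e) = 0 := by rw [← map_add]; exact ha
  have hcker : (f - 1) c ∈ LinearMap.ker (g - 1) := by
    rw [LinearMap.mem_ker, show (g - 1) ((f - 1) c) = (f - 1) ((g - 1) c) from LinearMap.congr_fun hcomm.eq c,
      LinearMap.mem_ker.1 hc, map_zero]
  have hdran : (f - 1) ((g - 1) e) ∈ LinearMap.range (g - 1) :=
    ⟨(f - 1) e, LinearMap.congr_fun hcomm.eq e⟩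
  have hc0 : (f - 1) c = 0 := (Submodule.disjoint_def.1 (Inv.disjoint_ker_range hsF hgs)) _ hcker (by
    rw [eq_neg_of_add_eq_zero_left hsum]; exact Submodule.neg_mem _ hdran)
  rw [hc0, zero_add] at hsum
  -- `d` is moved by `g` inside the fixed space of `f`
  set W := LinearMap.ker (f - 1) ⊓ LinearMap.range (g - 1)
  have hinvW : ∀ z ∈ W, (g - 1) z ∈ W := by
    rintro z ⟨hz1, hz2⟩
    refine ⟨?_, ⟨z, rfl⟩⟩
    rw [SetLike.mem_coe, LinearMap.mem_ker, show (f - 1) ((g - 1) z) = (g - 1) ((f - 1) z) from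
      (LinearMap.congr_fun hcomm.eq z).symm, LinearMap.mem_ker.1 hz1, map_zero]
  have hsurj : Function.Surjective ((g - 1).restrict hinvW) := LinearMap.surjective_of_injective (fun x y hxy => by
    have h' : (g - 1) (x.1 - y.1) = 0 := by
      rw [map_sub, sub_eq_zero]; exact congrArg Subtype.val hxy
    exact Subtype.ext (sub_eq_zero.1 ((Submodule.disjoint_def.1 (Inv.disjoint_ker_range hsF hgs)) _ h'
      (Submodule.sub_mem _ x.2.2 y.2.2))))
  obtain ⟨z, hz⟩ := hsurj ⟨(g - 1) e, hsum, ⟨e, rfl⟩⟩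
  exact h _ ⟨z.1, z.2.1, congrArg Subtype.val hz⟩

variable {g x : Module.End F V} {s η : ℕ} [hs : Fact s.Prime]

/-- The adjoint of a polynomial in an isometry. -/
theorem adjoint_aeval (hg : ∀ u v, B (g u) (g v) = B u v) (hgs : g ^ s = 1) (Q : F[X]) :
    ∀ u v, B (aeval (g ^ (s - 1)) Q u) v = B u (aeval g Q v) := by
  have hgg : ∀ u v, B ((g ^ (s - 1)) u) v = B u (g v) := fun u v => by
    rw [← hg ((g ^ (s - 1)) u) v, ← Module.End.mul_apply, ← pow_succ', Nat.sub_add_cancel hs.out.one_le, hgs,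
      Module.End.one_apply]
  have hpw : ∀ (j : ℕ) u v, B (((g ^ (s - 1)) ^ j) u) v = B u ((g ^ j) v) := by
    intro j
    induction j with
    | zero => simp
    | succ j ih =>
      intro u v
      rw [pow_succ, Module.End.mul_apply, ih, hgg, ← Module.End.mul_apply g, ← pow_succ']
  induction Q using Polynomial.induction_on' with
  | add a b ha hb => intro u v; simp [map_add, ha, hb]
  | monomial j c =>
    intro u v
    simp only [aeval_monomial, Module.algebraMap_end_apply, Module.End.mul_apply, map_smul,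
      LinearMap.smul_apply, hpw]

/-- A cyclic vector of the moved space. -/
theorem exists_cyclic (hg : ∀ u v, B (g u) (g v) = B u v) (hs2 : s ≠ 2) (hsF : (s : F) ≠ 0) (hgs : g ^ s = 1)
    (hη : IsEta (orderOf (Fintype.card F : ZMod s)) η) (hpos : 0 < η)
    (hR : finrank F (LinearMap.range (g - 1)) = 2 * η) :
    ∃ v, cyc g v = LinearMap.range (g - 1) := by
  classical
  set R := LinearMap.range (g - 1) with hRdef
  have hRinv : R.map g ≤ R := PrimeGraphPSL.range_map_le ((Commute.refl g).sub_right (Commute.one_right g))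
  have hle : ∀ v ∈ R, cyc g v ≤ R := fun v hv => cyc_le hRinv hv
  have hdvd : ∀ v ∈ R, orderOf (Fintype.card F : ZMod s) ∣ finrank F (cyc g v) := fun v hv =>
    dvd_finrank_sub hsF hgs (cyc_map_le g v) (hle v hv)
  have hposd : ∀ v : V, v ≠ 0 → 0 < finrank F (cyc g v) := fun v hv =>
    Nat.pos_of_ne_zero fun h => cyc_ne_bot hv (Submodule.finrank_eq_zero.1 h)
  obtain ⟨v₀, hv₀R, hv₀⟩ : ∃ v ∈ R, v ≠ 0 := Submodule.exists_mem_ne_zero_of_ne_bot fun h => by
    rw [h, finrank_bot] at hR; omega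
  by_contra hno
  push Not at hno
  have hlt : ∀ v ∈ R, finrank F (cyc g v) < 2 * η := fun v hv =>
    hR ▸ Submodule.finrank_lt_finrank_of_lt (lt_of_le_of_ne (hle v hv) (hno v))
  rcases hη with ⟨hodd, rfl⟩ | ⟨-, he⟩
  swap
  · have := Nat.le_of_dvd (hposd v₀ hv₀) (hdvd v₀ hv₀R)
    have := hlt v₀ hv₀R
    omega
  set l := orderOf (Fintype.card F : ZMod s)
  have hdim : ∀ v ∈ R, v ≠ 0 → finrank F (cyc g v) = l := by
    intro v hv hv0
    obtain ⟨c, hc⟩ := hdvd v hv
    have h1 := hlt v hv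
    have h2 := hposd v hv0
    rw [hc] at h1 h2 ⊢
    rcases c with _ | _ | c
    · simp at h2
    · simp
    · nlinarith
  have heq : ∀ v ∈ R, ∀ w ∈ cyc g v, w ≠ 0 → cyc g w = cyc g v := fun v hv w hw hw0 =>
    Submodule.eq_of_le_of_finrank_eq (cyc_le_cyc hw) (by
      rw [hdim w (hle v hv hw) hw0, hdim v hv fun h => hw0 (by
        rw [h, mem_cyc] at hw
        obtain ⟨P, hP⟩ := hw
        rw [← hP, map_zero])])
  -- an irreducible annihilator of a moved vector
  have hP0 : (∑ j ∈ Finset.range s, (X : F[X]) ^ j) ≠ 0 := fun e => hsF (by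
    have := congrArg (eval 1) e
    simpa [eval_finsetSum] using this)
  obtain ⟨L, hL, hL0⟩ := Inv.exists_factor_list hP0 g
  have hkill : aeval g L.prod v₀ = 0 := by
    obtain ⟨w, rfl⟩ := hv₀R
    exact hL0 _ (Inv.geom_apply_sub hgs w)
  obtain ⟨G, hG, v₁, hv₁R, hv₁, hGv⟩ :
      ∃ G ∈ L, ∃ v ∈ R, v ≠ 0 ∧ aeval g G v = 0 := by
    have key : ∀ L : List F[X], ∀ v ∈ R, v ≠ 0 → aeval g L.prod v = 0 →
        ∃ G ∈ L, ∃ w ∈ R, w ≠ 0 ∧ aeval g G w = 0 := by
      intro L
      induction L with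
      | nil => intro v _ hv0 h; simp at h; exact absurd h hv0
      | cons a L ih =>
        intro v hv hv0 h
        by_cases hL' : aeval g L.prod v = 0
        · obtain ⟨G, hG, hw⟩ := ih v hv hv0 hL'
          exact ⟨G, List.mem_cons_of_mem _ hG, hw⟩
        · rw [List.prod_cons, map_mul, Module.End.mul_apply] at h
          exact ⟨a, List.mem_cons_self, _, Inv.aeval_mem hRinv _ hv, hL', h⟩
    exact key L v₀ hv₀R hv₀ hkill
  obtain ⟨hGi, hGd⟩ := hL G hG
  have hGdeg : G.natDegree = l := Inv.natDegree_eq_orderOf hsF hGi hGd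
  have hkill₁ : ∀ w ∈ cyc g v₁, aeval g G w = 0 := by
    intro w hw
    obtain ⟨P, rfl⟩ := mem_cyc.1 hw
    rw [← Module.End.mul_apply, ← map_mul, mul_comm, map_mul, Module.End.mul_apply, hGv, map_zero]
  by_cases hall : ∀ v ∈ R, aeval g G v = 0
  · -- the inverse of a root would be a conjugate root
    have hinv : ∀ u v, B (aeval (g ^ (s - 1)) G u) v = B u (aeval g G v) := adjoint_aeval B hA hB hg hgs G
    have hz : aeval (g ^ (s - 1)) G v₁ = 0 := hB.1 _ fun v => by
      obtain ⟨c, hc, d, hd, rfl⟩ := Submodule.mem_sup.1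
        ((ker_sup_range hsF hgs).symm ▸ Submodule.mem_top : v ∈ LinearMap.ker (g - 1) ⊔ R)
      have hc' : g c = c := (map_eq_one_iff c).1 (LinearMap.mem_ker.1 hc)
      have hGc : aeval g G c = G.eval 1 • c :=
        Module.End.aeval_apply_of_hasEigenvector (f := g) (μ := (1 : F)) (x := c) (p := G) |> fun h => by
          by_cases hc0 : c = 0
          · simp [hc0]
          · exact h ⟨Module.End.mem_eigenspace_iff.2 (by rw [hc', one_smul]), hc0⟩
      rw [hinv, map_add, hall d hd, add_zero, hGc, map_smul]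
      obtain ⟨w, rfl⟩ := hv₁R
      have e := hg w c
      rw [hc'] at e
      rw [LinearMap.sub_apply, Module.End.one_apply, map_sub, LinearMap.sub_apply, e, sub_self, smul_zero]
    haveI := Fact.mk hGi
    haveI : Module.Finite F (AdjoinRoot G) := (AdjoinRoot.powerBasis hGi.ne_zero).finite
    haveI : Finite (AdjoinRoot G) := Module.finite_of_finite F
    have hGdvd : G ∣ G.comp (X ^ (s - 1)) := by
      by_contra hn
      obtain ⟨a, b, hab⟩ := hGi.coprime_iff_not_dvd.2 hn
      have h1 := congrArg (fun P => aeval g P v₁) hab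
      simp only [map_add, map_mul, map_one, LinearMap.add_apply, Module.End.mul_apply, hGv, map_zero, zero_add,
        Module.End.one_apply, aeval_comp, map_pow, aeval_X, hz] at h1
      exact hv₁ h1.symm
    set α := AdjoinRoot.root G
    have hroot : aeval (α ^ (s - 1)) G = 0 := by
      obtain ⟨c, hc⟩ := hGdvd
      have h1 := congrArg (aeval α) hc
      rwa [aeval_comp, map_pow, aeval_X, map_mul, AdjoinRoot.aeval_eq G, AdjoinRoot.mk_self, zero_mul] at h1
    have hαs : α ^ s = 1 ∧ α ≠ 1 := by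
      obtain ⟨c, hc⟩ := hGd
      have h0 := congrArg (AdjoinRoot.mk G) hc
      rw [map_mul, AdjoinRoot.mk_self, zero_mul, map_sum] at h0
      simp only [map_pow, AdjoinRoot.mk_X] at h0
      refine ⟨by rw [← sub_eq_zero, ← geom_sum_mul, h0, zero_mul], fun e => ?_⟩
      rw [show AdjoinRoot.root G = (1 : AdjoinRoot G) from e] at h0
      simp only [one_pow, Finset.sum_const, Finset.card_range, nsmul_eq_mul, mul_one] at h0
      exact hsF ((algebraMap F (AdjoinRoot G)).injective (by rw [map_natCast, h0, map_zero]))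
    let σ₀ : AdjoinRoot G →ₐ[F] AdjoinRoot G :=
      AdjoinRoot.liftAlgHom G (Algebra.ofId F _) (α ^ (s - 1)) (by simpa [aeval_def] using hroot)
    let σ : AdjoinRoot G ≃ₐ[F] AdjoinRoot G := AlgEquiv.ofBijective σ₀
      (Finite.injective_iff_bijective.1 σ₀.toRingHom.injective)
    have hσ : σ α = α ^ (s - 1) := by
      show σ₀ (AdjoinRoot.root G) = _
      simp [σ₀]
    have h2 : σ * σ = 1 := by
      apply AlgEquiv.coe_toAlgHom_injective
      refine AdjoinRoot.algHom_ext ?_
      show σ (σ α) = α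
      rw [hσ, map_pow, hσ, ← pow_mul]
      obtain ⟨t, ht⟩ : ∃ t, s = t + 2 := ⟨s - 2, by have := hs.out.two_le; omega⟩
      rw [show (s - 1) * (s - 1) = s * t + 1 by subst ht; simp; ring, pow_succ, pow_mul, hαs.1, one_pow, one_mul]
    have hcard : Nat.card (AdjoinRoot G ≃ₐ[F] AdjoinRoot G) = l := by
      rw [IsGalois.card_aut_eq_finrank, (AdjoinRoot.powerBasis hGi.ne_zero).finrank, AdjoinRoot.powerBasis_dim,
        hGdeg]
    have h1 : σ = 1 := by
      have hd2 := orderOf_dvd_of_pow_eq_one (n := 2) ((pow_two σ).trans h2)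
      have hdl : orderOf σ ∣ l := hcard ▸ orderOf_dvd_natCard σ
      exact orderOf_eq_one_iff.1 (Nat.eq_one_of_dvd_coprimes (Nat.coprime_two_left.2 hodd) hd2 hdl)
    rw [h1, AlgEquiv.one_apply] at hσ
    have hsq : α ^ 2 = 1 := by
      rw [pow_two]
      nth_rw 2 [hσ]
      rw [← pow_succ', Nat.sub_add_cancel hs.out.one_le, hαs.1]
    obtain ⟨t, ht⟩ := hs.out.odd_of_ne_two hs2
    exact hαs.2 (by rw [← hαs.1, ht, pow_succ, pow_mul, hsq, one_pow, one_mul])
  push Not at hall
  obtain ⟨v, hvR, hGv2⟩ := hall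
  have hv0 : v ≠ 0 := fun e => hGv2 (by rw [e, map_zero])
  have hw : cyc g (aeval g G v) = cyc g v := heq v hvR _ (mem_cyc.2 ⟨G, rfl⟩) hGv2
  have hdisj : cyc g v ⊓ cyc g v₁ = ⊥ := by
    rw [Submodule.eq_bot_iff]
    rintro z ⟨hz1, hz2⟩
    by_contra hz0
    exact hGv2 (hkill₁ v (by rw [← heq v₁ hv₁R z hz2 hz0, heq v hvR z hz1 hz0]; exact self_mem_cyc g v))
  have hsum : cyc g v ⊔ cyc g v₁ = R := by
    refine Submodule.eq_of_le_of_finrank_eq (sup_le (hle v hvR) (hle v₁ hv₁R)) ?_
    have := Submodule.finrank_sup_add_finrank_inf_eq (cyc g v) (cyc g v₁)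
    rw [hdisj, finrank_bot, add_zero, hdim v hvR hv0, hdim v₁ hv₁R hv₁] at this
    omega
  refine hno (v + v₁) (le_antisymm (hle _ (Submodule.add_mem _ hvR hv₁R)) ?_)
  have h1 : cyc g v ≤ cyc g (v + v₁) := by
    rw [← hw]
    exact cyc_le_cyc (mem_cyc.2 ⟨G, by rw [map_add, hGv, add_zero]⟩)
  rw [← hsum]
  refine sup_le h1 (cyc_le_cyc ?_)
  simpa using Submodule.sub_mem _ (self_mem_cyc g (v + v₁)) (h1 (self_mem_cyc g v))

/-- What commutes with `g` and moves no more is a polynomial in `g`. -/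
theorem exists_poly (hg : ∀ u v, B (g u) (g v) = B u v) (hs2 : s ≠ 2) (hsF : (s : F) ≠ 0) (hgs : g ^ s = 1)
    (hη : IsEta (orderOf (Fintype.card F : ZMod s)) η) (hpos : 0 < η)
    (hR : finrank F (LinearMap.range (g - 1)) = 2 * η) (hc : Commute x g)
    (hran : LinearMap.range (x - 1) ≤ LinearMap.range (g - 1))
    (hker : LinearMap.ker (g - 1) ≤ LinearMap.ker (x - 1)) :
    ∃ P : F[X], x = aeval g P := by
  obtain ⟨v, hv⟩ := exists_cyclic B hA hB hg hs2 hsF hgs hη hpos hR
  set R := LinearMap.range (g - 1) with hRdef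
  have hdisj := Submodule.disjoint_def.1 (Inv.disjoint_ker_range hsF hgs)
  have hvR : v ∈ R := hv ▸ self_mem_cyc g v
  have hsurj : ∀ y ∈ R, ∃ z ∈ R, (g - 1) z = y := by
    intro y hy
    obtain ⟨w, rfl⟩ := hy
    obtain ⟨c, hc', d, hd, rfl⟩ := Submodule.mem_sup.1
      ((ker_sup_range hsF hgs).symm ▸ Submodule.mem_top : w ∈ LinearMap.ker (g - 1) ⊔ R)
    exact ⟨d, hd, by rw [map_add, LinearMap.mem_ker.1 hc', zero_add]⟩
  have hgen : (x - 1) v ∈ cyc g ((g - 1) v) := by
    have h1 : (x - 1) v ∈ cyc g v := hv ▸ hran ⟨v, rfl⟩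
    have h2 : cyc g v ≤ cyc g ((g - 1) v) := by
      refine cyc_le_cyc ?_
      obtain ⟨z, hz, hzv⟩ := hsurj v hvR
      rw [← hv] at hz
      obtain ⟨P, rfl⟩ := mem_cyc.1 hz
      refine mem_cyc.2 ⟨P, ?_⟩
      rw [← Module.End.mul_apply, (commute_aeval ((Commute.refl g).sub_left (Commute.one_left g)) P).symm.eq,
        Module.End.mul_apply, hzv]
    exact h2 h1
  obtain ⟨Q, hQ⟩ := mem_cyc.1 hgen
  refine ⟨1 + Q * (X - 1), LinearMap.ext fun y => ?_⟩
  obtain ⟨c, hc', d, hd, rfl⟩ := Submodule.mem_sup.1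
    ((ker_sup_range hsF hgs).symm ▸ Submodule.mem_top : y ∈ LinearMap.ker (g - 1) ⊔ R)
  obtain ⟨P, rfl⟩ := mem_cyc.1 (show d ∈ cyc g v from hv ▸ hd)
  simp only [map_add, map_one, map_mul, map_sub, aeval_X, LinearMap.add_apply, Module.End.mul_apply,
    Module.End.one_apply]
  have e1 : x c = c := (map_eq_one_iff c).1 (LinearMap.mem_ker.1 (hker hc'))
  have e2 : x (aeval g P v) - aeval g P v = aeval g Q ((g - 1) (aeval g P v)) := by
    have hxP : Commute (x - 1) (aeval g P) := (commute_aeval hc P).sub_left (Commute.one_left _)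
    have hgP : Commute (aeval g Q * (g - 1)) (aeval g P) := by
      rw [show aeval g Q * (g - 1) = aeval g (Q * (X - 1)) by rw [map_mul, map_sub, map_one, aeval_X],
        commute_iff_eq, ← map_mul, ← map_mul, mul_comm]
    have h1 : (x - 1) (aeval g P v) = aeval g P ((x - 1) v) := LinearMap.congr_fun hxP.eq v
    have h2 : aeval g Q ((g - 1) (aeval g P v)) = aeval g P (aeval g Q ((g - 1) v)) := LinearMap.congr_fun hgP.eq v
    rw [h2, hQ, ← h1, LinearMap.sub_apply, Module.End.one_apply]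
  rw [e1, LinearMap.mem_ker.1 hc', map_zero, ← e2]
  abel

omit hA hB in
theorem aeval_pow_card (f : Module.End F V) (P : F[X]) (j : ℕ) :
    aeval f P ^ (Fintype.card F ^ j) = aeval (f ^ (Fintype.card F ^ j)) P := by
  induction j with
  | zero => simp
  | succ j ih =>
    rw [pow_succ, pow_mul, ih, ← map_pow, ← FiniteField.expand_card, expand_aeval, ← pow_mul]

end Cfsg.Agent.PrimeGraphPSp
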