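import Cfsg.Agent.PrimeGraphPSp.Basic

/-!
Adjacency in the prime graph of `PSp(2n,q)`.
-/

set_option autoImplicit false
set_option linter.unusedSectionVars false

namespace Cfsg.Agent.PrimeGraphPSp

open Module Polynomial Cfsg.Agent.ClMax99 Cfsg.Agent.Symplectic Cfsg.Agent.KS58

universe u

variable {F : Type u} [Field F] [Fintype F] {n : ℕ}

theorem commute_op {A B : Sp n F} (h : Commute A B) : Commute (op A) (op B) := h.map op

theorem commuting_pair {r s : ℕ} (hr : r.Prime) (hs : s.Prime) (g : Sp n F) (hg : orderOf g = r * s) :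
    ∃ A B : Sp n F, Commute A B ∧ orderOf A = r ∧ orderOf B = s := by
  refine ⟨g ^ s, g ^ r, (Commute.refl g).pow_pow _ _, ?_, ?_⟩
  · rw [orderOf_pow' g hs.ne_zero, hg, Nat.gcd_eq_right (dvd_mul_left s r), Nat.mul_div_cancel _ hs.pos]
  · rw [orderOf_pow' g hr.ne_zero, hg, Nat.gcd_eq_right (dvd_mul_right r s), Nat.mul_div_cancel_left _ hr.pos]

theorem char_pair {r η : ℕ} [hr : Fact r.Prime] (hr2 : r ≠ 2) (p : ℕ) [Fact p.Prime] [CharP F p] (hrp : r ≠ p)
    (hη : IsEta (orderOf (Fintype.card F : ZMod r)) η) (hn : 1 ≤ n) (hle : η ≤ n) :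
    r * p ∈ Set.range (orderOf : Cfsg.PSp n F → ℕ) ↔ η ≤ n - 1 := by
  have hrF : (r : F) ≠ 0 := Inv.cast_ne_zero_of_ne hrp
  have hk := Inv.orderOf_pos_of_ne (F := F) hrp
  constructor
  · intro h
    by_contra hlt
    have heq : η = n := by omega
    obtain ⟨g, hg⟩ := mem_range_Sp h
    obtain ⟨A, U, hc, hA, hU⟩ := commuting_pair hr.out Fact.out g hg
    obtain ⟨h1, h2⟩ := moved_dvd hrF hη hA
    have hd := Nat.le_of_dvd h2 h1
    have hle2 := (Submodule.finrank_le (LinearMap.range (op A - 1))).trans_eq finrank_vec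
    have hR : finrank F (LinearMap.range (op A - 1)) = 2 * η := by omega
    have htop : LinearMap.range (op A - 1) = ⊤ := Submodule.eq_top_of_finrank_eq (by rw [hR, finrank_vec, heq])
    have hbot : LinearMap.ker (op A - 1) = ⊥ := by
      rw [← Submodule.finrank_eq_zero]
      have := LinearMap.finrank_range_add_finrank_ker (op A - 1)
      rw [hR, finrank_vec, heq] at this
      omega
    obtain ⟨P, hP⟩ := exists_poly (Forms.sympBilin n F) Forms.sympBilin_isAlt Forms.sympBilin_nondegenerate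
      (x := op U) (op_isometry A) hr2 hrF (op_pow_eq_one hA) hη (eta_pos hη hk) hR (commute_op hc).symm
      (htop ▸ le_top) (hbot ▸ bot_le)
    set k := orderOf (Fintype.card F : ZMod r)
    have hr1 : r ∣ Fintype.card F ^ k - 1 := (Inv.orderOf_dvd_iff_dvd_pow k).1 dvd_rfl
    have hq1 : 1 ≤ Fintype.card F ^ k := Nat.one_le_pow _ _ Fintype.card_pos
    have hfix : A ^ (Fintype.card F ^ k) = A := by
      obtain ⟨c, hc⟩ := hr1
      rw [show Fintype.card F ^ k = r * c + 1 by omega, pow_succ, pow_mul, ← hA, pow_orderOf_eq_one, one_pow, one_mul]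
    have hUfix : U ^ (Fintype.card F ^ k - 1) = 1 := by
      refine mul_right_cancel (b := U) ?_
      rw [← pow_succ, Nat.sub_add_cancel hq1, one_mul]
      refine op_injective ?_
      rw [map_pow, hP, aeval_pow_card, ← map_pow, hfix]
    exact Inv.not_dvd_pow_sub_one (F := F) hk (hU ▸ orderOf_dvd_of_pow_eq_one hUfix)
  · intro hηn
    have hodd : Odd (r * p) ∨ (2 : F) = 0 := by
      rcases (Fact.out : p.Prime).eq_two_or_odd' with h | h
      · refine Or.inr ?_
        have := CharP.cast_eq_zero F p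
        rwa [h, Nat.cast_ofNat] at this
      · exact Or.inl ((hr.out.odd_of_ne_two hr2).mul h)
    obtain ⟨g, hg⟩ := exists_block_order (F := F) (n := n) (a := η) (b := n - η) (by omega)
      (exists_sp_order (eta_pos hη hk) (eta_dvd hk hη)) (exists_char_order (by omega) p)
    rw [((Nat.coprime_primes hr.out Fact.out).2 hrp).lcm_eq_mul] at hg
    exact mem_range_PSp hodd hg

variable {r s ηr ηs : ℕ} [hr : Fact r.Prime] [hs : Fact s.Prime]

/-- If the moved spaces do not fit side by side, the kernels are nested. -/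
theorem ker_le (hrF : (r : F) ≠ 0) (hsF : (s : F) ≠ 0)
    (hηr : IsEta (orderOf (Fintype.card F : ZMod r)) ηr) (hηs : IsEta (orderOf (Fintype.card F : ZMod s)) ηs)
    (hn : n < ηr + ηs) {A B : Sp n F} (hA : orderOf A = r) (hB : orderOf B = s) (hc : Commute A B) :
    LinearMap.ker (op A - 1) ≤ LinearMap.ker (op B - 1) := by
  have hcc : Commute (op A) (op B) := commute_op hc
  have hinv : (LinearMap.ker (op A - 1)).map (op B) ≤ LinearMap.ker (op A - 1) := by
    rintro _ ⟨w, hw, rfl⟩
    have := LinearMap.congr_fun ((hcc.sub_left (Commute.one_left _)).eq) w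
    rw [Module.End.mul_apply, Module.End.mul_apply, LinearMap.mem_ker.1 hw, map_zero] at this
    exact LinearMap.mem_ker.2 this
  set W := LinearMap.ker (op A - 1) with hW
  have hdvd : 2 * ηs ∣ finrank F (W.map (op B - 1)) :=
    hηs.two_mul_dvd (Inv.dvd_finrank_moved hsF (op_pow_eq_one hB) hinv)
      (even_moved_fixed _ Forms.sympBilin_isAlt Forms.sympBilin_nondegenerate (op_isometry A) (op_isometry B) hcc
        hrF hsF (op_pow_eq_one hA) (op_pow_eq_one hB))
  obtain ⟨h1, h2⟩ := moved_dvd hrF hηr hA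
  have hd := Nat.le_of_dvd h2 h1
  have hsum := LinearMap.finrank_range_add_finrank_ker (op A - 1)
  rw [finrank_vec, ← hW] at hsum
  have hle : finrank F (W.map (op B - 1)) ≤ finrank F W := Submodule.finrank_map_le _ _
  have h0 : finrank F (W.map (op B - 1)) = 0 := Nat.eq_zero_of_dvd_of_lt hdvd (by omega)
  rw [Submodule.finrank_eq_zero, Submodule.eq_bot_iff] at h0
  exact fun w hw => LinearMap.mem_ker.2 (h0 _ ⟨w, hw, rfl⟩)

theorem odd_pair (hr2 : r ≠ 2) (hs2 : s ≠ 2) (hrs : r ≠ s) (p : ℕ) [Fact p.Prime] [CharP F p] (hrp : r ≠ p)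
    (hsp : s ≠ p) (k l : ℕ) (hk : k = orderOf (Fintype.card F : ZMod r)) (hl : l = orderOf (Fintype.card F : ZMod s))
    (hηr : IsEta k ηr) (hηs : IsEta l ηs) (hkl : ηr ≤ ηs) (hle : ηs ≤ n) :
    r * s ∈ Set.range (orderOf : Cfsg.PSp n F → ℕ) ↔ (ηr + ηs ≤ n ∨ ∃ t : ℕ, Odd t ∧ l = k * t) := by
  have hrF : (r : F) ≠ 0 := Inv.cast_ne_zero_of_ne hrp
  have hsF : (s : F) ≠ 0 := Inv.cast_ne_zero_of_ne hsp
  have hkpos : 0 < k := hk ▸ Inv.orderOf_pos_of_ne (F := F) hrp
  have hlpos : 0 < l := hl ▸ Inv.orderOf_pos_of_ne (F := F) hsp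
  subst hk hl
  constructor
  · intro h
    by_cases hn : ηr + ηs ≤ n
    · exact Or.inl hn
    refine Or.inr ?_
    obtain ⟨g, hg⟩ := mem_range_Sp h
    obtain ⟨A, B, hc, hA, hB⟩ := commuting_pair hr.out hs.out g hg
    have k1 := ker_le hrF hsF hηr hηs (by omega) hA hB hc
    have k2 := ker_le hsF hrF hηs hηr (by omega) hB hA hc.symm
    have hker : LinearMap.ker (op A - 1) = LinearMap.ker (op B - 1) := le_antisymm k1 k2
    have hsumA := LinearMap.finrank_range_add_finrank_ker (op A - 1)
    have hsumB := LinearMap.finrank_range_add_finrank_ker (op B - 1)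
    rw [hker, finrank_vec] at hsumA
    rw [finrank_vec] at hsumB
    obtain ⟨hB1, hB2⟩ := moved_dvd hsF hηs hB
    have hR : finrank F (LinearMap.range (op B - 1)) = 2 * ηs := by
      obtain ⟨c, hc⟩ := hB1
      rcases c with _ | _ | c
      · omega
      · omega
      · rw [hc] at hsumB; nlinarith
    have hran : LinearMap.range (op A - 1) ≤ LinearMap.range (op B - 1) := by
      rintro _ ⟨w, rfl⟩
      obtain ⟨c, hc', d, hd, rfl⟩ := Submodule.mem_sup.1 ((ker_sup_range hsF (op_pow_eq_one hB)).symm ▸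
        Submodule.mem_top : w ∈ LinearMap.ker (op B - 1) ⊔ LinearMap.range (op B - 1))
      obtain ⟨e, rfl⟩ := hd
      rw [map_add, LinearMap.mem_ker.1 (k2 hc'), zero_add]
      exact ⟨(op A - 1) e, LinearMap.congr_fun
        (((commute_op hc).symm.sub_right (Commute.one_right _)).sub_left (Commute.one_left _)).eq e⟩
    obtain ⟨P, hP⟩ := exists_poly (Forms.sympBilin n F) Forms.sympBilin_isAlt Forms.sympBilin_nondegenerate
      (x := op A) (op_isometry B) hs2 hsF (op_pow_eq_one hB) hηs (eta_pos hηs hlpos) hR (commute_op hc) hran k2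
    rcases hηs with ⟨hlodd, rfl⟩ | ⟨-, hl2⟩
    · -- odd order
      have hfix : B ^ (Fintype.card F ^ (orderOf (Fintype.card F : ZMod s))) = B := by
        obtain ⟨c, hc⟩ := (Inv.orderOf_dvd_iff_dvd_pow (F := F) (r := s) (orderOf (Fintype.card F : ZMod s))).1 dvd_rfl
        have : 1 ≤ Fintype.card F ^ (orderOf (Fintype.card F : ZMod s)) := Nat.one_le_pow _ _ Fintype.card_pos
        rw [show Fintype.card F ^ (orderOf (Fintype.card F : ZMod s)) = s * c + 1 by omega, pow_succ, pow_mul, ← hB, pow_orderOf_eq_one, one_pow, one_mul]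
      have hfixA : A ^ (Fintype.card F ^ (orderOf (Fintype.card F : ZMod s)) - 1) = 1 := by
        refine mul_right_cancel (b := A) ?_
        rw [← pow_succ, Nat.sub_add_cancel (Nat.one_le_pow _ _ Fintype.card_pos), one_mul]
        refine op_injective ?_
        rw [map_pow, hP, aeval_pow_card, ← map_pow, hfix]
      have hdiv : orderOf (Fintype.card F : ZMod r) ∣ (orderOf (Fintype.card F : ZMod s)) := (Inv.orderOf_dvd_iff_dvd_pow (orderOf (Fintype.card F : ZMod s))).2 (hA ▸ orderOf_dvd_of_pow_eq_one hfixA)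
      obtain ⟨t, ht⟩ := hdiv
      exact ⟨t, (Nat.odd_mul.1 (ht ▸ hlodd)).2, ht⟩
    · -- even order
      have hs1 : s ∣ Fintype.card F ^ ηs + 1 := dvd_pow_add_one hlpos hl2
      have hfix : B ^ (Fintype.card F ^ ηs) = B ^ (s - 1) := by
        obtain ⟨c, hc⟩ := hs1
        refine mul_right_cancel (b := B) ?_
        rw [← pow_succ, ← pow_succ, hc, Nat.sub_add_cancel hs.out.one_le, pow_mul, ← hB, pow_orderOf_eq_one,
          one_pow]
      have hadj : op A ^ (Fintype.card F ^ ηs) = op A ^ (r - 1) := by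
        have h1 : op A ^ (Fintype.card F ^ ηs) = aeval (op B ^ (s - 1)) P := by
          rw [hP, aeval_pow_card, ← map_pow, hfix, map_pow]
        rw [h1]
        refine LinearMap.ext fun u => sub_eq_zero.1 ((Forms.sympBilin_nondegenerate (m := n) (F := F)).1 _ fun v => ?_)
        have e1 := adjoint_aeval (Forms.sympBilin n F) Forms.sympBilin_isAlt Forms.sympBilin_nondegenerate
          (op_isometry B) (op_pow_eq_one hB) P u v
        have e2 : Forms.sympBilin n F ((op A ^ (r - 1)) u) v = Forms.sympBilin n F u (op A v) := by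
          rw [← op_isometry A ((op A ^ (r - 1)) u) v, ← Module.End.mul_apply, ← pow_succ',
            Nat.sub_add_cancel hr.out.one_le, op_pow_eq_one hA, Module.End.one_apply]
        rw [map_sub, LinearMap.sub_apply, e1, e2, ← hP, sub_self]
      have hA1 : A ^ (Fintype.card F ^ ηs + 1) = 1 := by
        rw [pow_succ]
        have : A ^ (Fintype.card F ^ ηs) = A ^ (r - 1) := op_injective (by rw [map_pow, map_pow, hadj])
        rw [this, ← pow_succ, Nat.sub_add_cancel hr.out.one_le, ← hA, pow_orderOf_eq_one]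
      have hr1 : r ∣ Fintype.card F ^ ηs + 1 := hA ▸ orderOf_dvd_of_pow_eq_one hA1
      have hdiv : orderOf (Fintype.card F : ZMod r) ∣ (orderOf (Fintype.card F : ZMod s)) := by
        rw [← hl2]
        refine (Inv.orderOf_dvd_iff_dvd_pow _).2 ?_
        rw [show Fintype.card F ^ (2 * ηs) - 1 = (Fintype.card F ^ ηs + 1) * (Fintype.card F ^ ηs - 1) by
          rw [← Nat.sq_sub_sq, one_pow, ← pow_mul, mul_comm ηs]]
        exact dvd_mul_of_dvd_left hr1 _
      obtain ⟨t, ht⟩ := hdiv
      refine ⟨t, ?_, ht⟩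
      by_contra heven
      obtain ⟨t', rfl⟩ := Nat.not_odd_iff_even.1 heven
      have hk' : orderOf (Fintype.card F : ZMod r) ∣ ηs := ⟨t', by
        have : orderOf (Fintype.card F : ZMod r) * (t' + t') = 2 * (orderOf (Fintype.card F : ZMod r) * t') := by ring
        omega⟩
      have h2 := Nat.dvd_sub hr1 ((Inv.orderOf_dvd_iff_dvd_pow ηs).1 hk')
      have : 1 ≤ Fintype.card F ^ ηs := Nat.one_le_pow _ _ Fintype.card_pos
      rw [show Fintype.card F ^ ηs + 1 - (Fintype.card F ^ ηs - 1) = 2 by omega] at h2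
      exact hr2 ((Nat.prime_dvd_prime_iff_eq hr.out Nat.prime_two).1 h2)
  · intro h
    have hm : Odd (r * s) := (hr.out.odd_of_ne_two hr2).mul (hs.out.odd_of_ne_two hs2)
    have hcop := (Nat.coprime_primes hr.out hs.out).2 hrs
    suffices ∃ g : Sp n F, orderOf g = r * s by
      obtain ⟨g, hg⟩ := this
      exact mem_range_PSp (Or.inl hm) hg
    rcases h with hn | ⟨t, ht, hlt⟩
    · refine exists_extend hn ?_
      rw [← hcop.lcm_eq_mul]
      exact exists_block_order rfl (exists_sp_order (eta_pos hηr hkpos) (eta_dvd hkpos hηr))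
        (exists_sp_order (eta_pos hηs hlpos) (eta_dvd hlpos hηs))
    · refine exists_extend hle (exists_sp_order (eta_pos hηs hlpos) ?_)
      rcases hηs with ⟨hlodd, rfl⟩ | ⟨hleven, hl2⟩
      · exact Or.inl (hcop.mul_dvd_of_dvd_of_dvd ((Inv.orderOf_dvd_iff_dvd_pow _).1 ⟨t, hlt⟩)
          ((Inv.orderOf_dvd_iff_dvd_pow _).1 dvd_rfl))
      · refine Or.inr (hcop.mul_dvd_of_dvd_of_dvd ?_ (dvd_pow_add_one hlpos hl2))
        have hkeven : Even (orderOf (Fintype.card F : ZMod r)) := by
          rw [hlt, Nat.even_mul] at hleven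
          exact hleven.resolve_right (Nat.not_even_iff_odd.2 ht)
        rcases hηr with ⟨ho, -⟩ | ⟨-, hk2⟩
        · exact absurd hkeven (Nat.not_even_iff_odd.2 ho)
        have e : ηs = ηr * t := by
          have : orderOf (Fintype.card F : ZMod r) * t = 2 * (ηr * t) := by rw [← hk2]; ring
          omega
        refine (dvd_pow_add_one hkpos hk2).trans ?_
        have := Odd.nat_add_dvd_pow_add_pow (Fintype.card F ^ ηr) 1 ht
        rwa [one_pow, ← pow_mul, ← e] at this

end Cfsg.Agent.PrimeGraphPSp
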